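import Mathlib

/-!
A smooth algebra is a retract of a standard smooth algebra that is smooth over it.
-/

set_option autoImplicit false
set_option linter.style.haveILetI false
set_option linter.unusedSimpArgs false

universe u

namespace Groth.Agent.SmoothRetract

open MvPolynomial

theorem pderiv_aeval {R : Type*} [CommRing R] {σ τ : Type*} [Fintype σ] (Y : σ → MvPolynomial τ R) (j : τ)
    (p : MvPolynomial σ R) :
    pderiv j (aeval Y p) = ∑ i, aeval Y (pderiv i p) * pderiv j (Y i) := by
  classical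
  induction p using MvPolynomial.induction_on with
  | C a => simp
  | add p q hp hq => simp only [map_add, hp, hq, add_mul, Finset.sum_add_distrib]
  | mul_X p k hp =>
    rw [map_mul, aeval_X, pderiv_mul, hp, Finset.sum_mul]
    simp only [pderiv_mul, map_add, map_mul, aeval_X, add_mul, Finset.sum_add_distrib]
    congr 1
    · exact Finset.sum_congr rfl fun i _ => by ring
    · rw [Finset.sum_eq_single k]
      · rw [pderiv_X_self, map_one, mul_one]
      · intro i _ hi
        rw [pderiv_X_of_ne hi.symm, map_zero, mul_zero, zero_mul]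
      · simp

theorem aeval_taylor {R E : Type*} [CommRing R] [CommRing E] [Algebra R E] {σ : Type*} [Fintype σ] (J : Ideal E)
    (hJ : J ^ 2 = ⊥) (z h : σ → E) (hh : ∀ s, h s ∈ J) (p : MvPolynomial σ R) :
    aeval (fun s => z s + h s) p = aeval z p + ∑ s, h s * aeval z (pderiv s p) := by
  classical
  have h0 : ∀ s t, h s * h t = 0 := fun s t => by
    have : h s * h t ∈ J ^ 2 := by rw [sq]; exact Ideal.mul_mem_mul (hh s) (hh t)
    rwa [hJ, Ideal.mem_bot] at this
  induction p using MvPolynomial.induction_on with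
  | C a => simp
  | add p q hp hq =>
    simp only [map_add, hp, hq, mul_add, Finset.sum_add_distrib]
    ring
  | mul_X p k hp =>
    simp only [map_mul, aeval_X, hp, pderiv_mul, map_add, mul_add, Finset.sum_add_distrib]
    rw [show ∑ s, h s * (aeval z p * aeval z (pderiv s (X k : MvPolynomial σ R))) = h k * aeval z p by
      rw [Finset.sum_eq_single k]
      · rw [pderiv_X_self, map_one, mul_one]
      · intro i _ hi
        rw [pderiv_X_of_ne hi.symm, map_zero, mul_zero, mul_zero]
      · simp]
    have e : (∑ s, h s * aeval z (pderiv s p)) * h k = 0 := by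
      rw [Finset.sum_mul]
      exact Finset.sum_eq_zero fun s _ => by rw [mul_right_comm, h0, zero_mul]
    have e' : ∑ s, h s * (aeval z (pderiv s p) * z k) = (∑ s, h s * aeval z (pderiv s p)) * z k := by
      rw [Finset.sum_mul]
      exact Finset.sum_congr rfl fun s _ => by ring
    rw [e']
    linear_combination e

theorem eq_zero_of_det {E : Type*} [CommRing E] {ι : Type*} [Fintype ι] [DecidableEq ι] (M : Matrix ι ι E)
    (v : ι → E) (hM : IsUnit M.det) (h : M.mulVec v = 0) : v = 0 := by
  have h1 := congrArg (M.adjugate.mulVec ·) h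
  simp only [Matrix.mulVec_mulVec, Matrix.adjugate_mul, Matrix.smul_mulVec, Matrix.one_mulVec,
    Matrix.mulVec_zero] at h1
  funext i
  exact hM.mul_right_eq_zero.mp (congrFun h1 i)

theorem key_identity {B : Type*} [CommRing B] {ι : Type*} [Fintype ι] (P Q : ι → ι → B) (C : ι → ι → ι → B)
    (F W : ι → B) (hC : ∀ k l, ∑ j, C k l j * F j = P k l - ∑ t, P k t * P t l)
    (hF : ∀ t, F t = -W t + ∑ l, P t l * W l) (hQ : ∀ k, F k = ∑ l, P k l * F l + ∑ l, Q k l * F l) (k : ι) :
    F k = ∑ j, (Q k j - ∑ l, C k l j * W l) * F j := by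
  have h1 : ∑ j, (∑ l, C k l j * W l) * F j = ∑ l, (P k l - ∑ t, P k t * P t l) * W l := by
    simp only [← hC, Finset.sum_mul]
    rw [Finset.sum_comm]
    exact Finset.sum_congr rfl fun l _ => Finset.sum_congr rfl fun j _ => by ring
  have h2 : ∑ t, P k t * F t = -∑ l, (P k l - ∑ t, P k t * P t l) * W l := by
    simp only [hF, mul_add, Finset.sum_add_distrib, sub_mul, Finset.sum_sub_distrib, Finset.mul_sum,
      Finset.sum_mul, mul_neg, Finset.sum_neg_distrib, ← mul_assoc]
    rw [Finset.sum_comm (f := fun t l => P k t * P t l * W l)]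
    ring
  rw [hQ k, h2]
  simp only [sub_mul, Finset.sum_sub_distrib] at h1 ⊢
  linear_combination h1

theorem exists_projector {R A : Type u} [CommRing R] [CommRing A] [Algebra R A] [Algebra.Smooth R A] :
    ∃ (n m : ℕ) (φ : MvPolynomial (Fin n) R →ₐ[R] A) (f : Fin m → MvPolynomial (Fin n) R)
      (N : Fin n → Fin m → MvPolynomial (Fin n) R) (P Q : Fin m → Fin m → MvPolynomial (Fin n) R),
      Function.Surjective φ ∧ RingHom.ker φ.toRingHom = Ideal.span (Set.range f) ∧
      (∀ k l, P k l = ∑ i, pderiv i (f k) * N i l) ∧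
      (∀ k, f k = ∑ l, P k l * f l + ∑ l, Q k l * f l) ∧ (∀ k l, φ (Q k l) = 0) ∧
      ∀ k l, ∑ t, φ (P k t) * φ (P t l) = φ (P k l) := by
  classical
  obtain ⟨n, φ, hφ, hfg⟩ := (inferInstance : Algebra.FinitePresentation R A).out
  obtain ⟨T, hT⟩ := hfg
  let f : Fin T.card → MvPolynomial (Fin n) R := fun i => (T.equivFin.symm i : MvPolynomial (Fin n) R)
  have hker : RingHom.ker φ.toRingHom = Ideal.span (Set.range f) := by
    rw [← hT]
    congr 1
    ext x
    exact ⟨fun hx => ⟨T.equivFin ⟨x, hx⟩, by simp [f]⟩, fun ⟨i, hi⟩ => hi ▸ (T.equivFin.symm i).2⟩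
  let G := Algebra.Generators.ofAlgHom φ hφ
  have hev : (aeval G.val : MvPolynomial (Fin n) R →ₐ[R] A) = φ := MvPolynomial.algHom_ext fun i => by
    rw [aeval_X]; rfl
  have hGker : G.ker = Ideal.span (Set.range f) := by
    rw [G.ker_eq_ker_aeval_val, hev]; exact hker
  have hfk : ∀ l, f l ∈ G.toExtension.ker := fun l => by
    change f l ∈ G.ker
    rw [hGker]
    exact Ideal.subset_span ⟨l, rfl⟩
  let w : Fin T.card → G.toExtension.Cotangent := fun l => Algebra.Extension.Cotangent.mk ⟨f l, hfk l⟩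
  have hsm : ∀ (a : G.toExtension.Ring) (x : G.toExtension.ker),
      Algebra.Extension.Cotangent.mk (a • x) = φ a • Algebra.Extension.Cotangent.mk x := fun a x => by
    rw [map_smul, ← algebraMap_smul A a, ← hev]
    exact congrArg (· • Algebra.Extension.Cotangent.mk x) (G.algebraMap_apply a)
  have hwsp : ∀ z : G.toExtension.Cotangent, ∃ c : Fin T.card → A, ∑ l, c l • w l = z := by
    intro z
    obtain ⟨⟨p, hp⟩, rfl⟩ := Algebra.Extension.Cotangent.mk_surjective z
    have hp' : p ∈ Ideal.span (Set.range f) := hGker ▸ hp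
    obtain ⟨cf, hcf⟩ := Ideal.mem_span_range_iff_exists_fun.mp hp'
    have h : (⟨p, hp⟩ : G.toExtension.ker) = ∑ l, (show G.toExtension.Ring from cf l) • ⟨f l, hfk l⟩ := by
      refine Subtype.ext ?_
      rw [AddSubmonoidClass.coe_finsetSum]
      exact hcf.symm
    refine ⟨fun l => φ (cf l), ?_⟩
    rw [h, map_sum]
    exact Finset.sum_congr rfl fun l _ => (hsm _ _).symm
  haveI : Algebra.FormallySmooth R G.toExtension.Ring :=
    inferInstanceAs (Algebra.FormallySmooth R (MvPolynomial (Fin n) R))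
  obtain ⟨σ, hσ⟩ := (Algebra.Extension.formallySmooth_iff_split_injection G.toExtension).mp
    (inferInstance : Algebra.FormallySmooth R A)
  choose cN hcN using fun i => hwsp (σ (G.cotangentSpaceBasis i))
  choose N hN using fun i k => hφ (cN i k)
  let P : Fin T.card → Fin T.card → MvPolynomial (Fin n) R := fun k l => ∑ i, pderiv i (f k) * N i l
  have hrepr : ∀ k i, G.cotangentSpaceBasis.repr (G.toExtension.cotangentComplex (w k)) i = φ (pderiv i (f k)) :=
    fun k i => by
    refine (G.cotangentSpaceBasis_repr_one_tmul (f k) i).trans ?_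
    rw [hev]
  have hPw : ∀ k, ∑ l, φ (P k l) • w l = w k := by
    intro k
    have h1 : σ (G.toExtension.cotangentComplex (w k)) = w k := LinearMap.congr_fun hσ (w k)
    conv_rhs => rw [← h1, ← G.cotangentSpaceBasis.sum_repr (G.toExtension.cotangentComplex (w k))]
    simp only [map_sum, map_smul, ← hcN, Finset.smul_sum, smul_smul, hrepr, ← hN, ← map_mul]
    rw [Finset.sum_comm]
    simp only [P, map_sum, Finset.sum_smul]
  have hQ : ∀ k, ∃ Q : Fin T.card → MvPolynomial (Fin n) R, (∀ l, φ (Q l) = 0) ∧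
      f k = ∑ l, P k l * f l + ∑ l, Q l * f l := by
    intro k
    have heq : Algebra.Extension.Cotangent.mk (⟨f k, hfk k⟩ : G.toExtension.ker) =
        Algebra.Extension.Cotangent.mk (∑ l, (show G.toExtension.Ring from P k l) • (⟨f l, hfk l⟩ : G.toExtension.ker)) := by
      rw [map_sum]
      exact ((Finset.sum_congr rfl fun l _ => hsm _ _).trans (hPw k)).symm
    rw [Algebra.Extension.Cotangent.mk_eq_mk_iff_sub_mem, AddSubmonoidClass.coe_finsetSum] at heq
    change f k - ∑ l, P k l * f l ∈ G.ker ^ 2 at heq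
    rw [hGker] at heq
    have heq' : f k - ∑ l, P k l * f l ∈ Ideal.span (Set.range f) • Ideal.span (Set.range f) := by
      have h2 : f k - ∑ l, P k l * f l ∈ (Ideal.span (Set.range f) : Ideal (MvPolynomial (Fin n) R)) ^ 2 := heq
      rwa [sq, ← smul_eq_mul] at h2
    obtain ⟨a, ha, hsum⟩ := (Submodule.mem_ideal_smul_span_iff_exists_sum _ f _).mp heq'
    refine ⟨a, fun l => ?_, ?_⟩
    · have : a l ∈ RingHom.ker φ.toRingHom := hker ▸ ha l
      exact this
    · rw [Finsupp.sum_fintype _ _ (by simp)] at hsum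
      simp only [smul_eq_mul] at hsum
      rw [hsum]
      ring
  choose Q hQ0 hQf using hQ
  refine ⟨n, T.card, φ, f, N, P, Q, hφ, hker, fun k l => rfl, hQf, hQ0, fun k l => ?_⟩
  have hMP : ∀ i, ∑ t, φ (P k t) * φ (pderiv i (f t)) = φ (pderiv i (f k)) := fun i => by
    have h := congrArg (fun x => G.cotangentSpaceBasis.repr (G.toExtension.cotangentComplex x) i) (hPw k)
    simpa only [map_sum, map_smul, Finsupp.finsetSum_apply, Finsupp.smul_apply, hrepr, smul_eq_mul] using h
  simp only [P, map_sum, map_mul] at hMP ⊢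
  simp only [Finset.mul_sum, ← mul_assoc]
  rw [Finset.sum_comm]
  exact Finset.sum_congr rfl fun i _ => by rw [← Finset.sum_mul, hMP]

theorem exists_retract {R A : Type u} [CommRing R] [CommRing A] [Algebra R A] [Algebra.Smooth R A] :
    ∃ (B : Type u) (_ : CommRing B) (_ : Algebra R B) (_ : Algebra A B) (_ : IsScalarTower R A B),
      Algebra.Smooth A B ∧ Nonempty (B →ₐ[A] A) ∧ Algebra.IsStandardSmooth R B := by
  classical
  obtain ⟨n, m, φ, f, N, P, Q, hφ, hker, hP, hQ, hQ0, hidem⟩ := exists_projector (R := R) (A := A)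
  have hf0 : ∀ k, φ (f k) = 0 := fun k => by
    have : f k ∈ RingHom.ker φ.toRingHom := hker ▸ Ideal.subset_span ⟨k, rfl⟩
    exact this
  let W : Fin m → MvPolynomial (Fin n ⊕ Fin m) R := fun l => X (Sum.inr l)
  let ι : MvPolynomial (Fin n) R →ₐ[R] MvPolynomial (Fin n ⊕ Fin m) R := aeval fun i => X (Sum.inl i)
  let Y : Fin n → MvPolynomial (Fin n ⊕ Fin m) R := fun i => X (Sum.inl i) + ∑ l, ι (N i l) * W l
  let ρ : MvPolynomial (Fin n) R →ₐ[R] MvPolynomial (Fin n ⊕ Fin m) R := aeval Y
  let g : Fin m → MvPolynomial (Fin n ⊕ Fin m) R := fun k => ρ (f k) + W k - ∑ l, ρ (P k l) * W l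
  let JW : Matrix (Fin m) (Fin m) (MvPolynomial (Fin n ⊕ Fin m) R) :=
    Matrix.of fun k l => pderiv (Sum.inr l) (g k)
  let K : Matrix (Fin n) (Fin n) (MvPolynomial (Fin n ⊕ Fin m) R) :=
    Matrix.of fun i j => pderiv (Sum.inl j) (Y i)
  have hcj : ∀ k l, ∃ c : Fin m → MvPolynomial (Fin n) R, ∑ j, c j * f j = P k l - ∑ t, P k t * P t l := by
    intro k l
    refine Ideal.mem_span_range_iff_exists_fun.mp ?_
    rw [← hker, RingHom.mem_ker]
    change φ _ = 0
    rw [map_sub, map_sum, sub_eq_zero]
    simp only [map_mul]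
    exact (hidem k l).symm
  choose cc hcc using hcj
  let T : Matrix (Fin m) (Fin m) (MvPolynomial (Fin n ⊕ Fin m) R) :=
    Matrix.of fun k j => ρ (Q k j) - ∑ l, ρ (cc k l j) * W l
  let δ : MvPolynomial (Fin n ⊕ Fin m) R := JW.det * (K.det * (1 - T).det)
  -- the retraction on the polynomial ring
  let ret : MvPolynomial (Fin n ⊕ Fin m) R →ₐ[R] A := aeval (Sum.elim (fun i => φ (X i)) fun _ => 0)
  have hretW : ∀ l, ret (W l) = 0 := fun l => by simp [ret, W]
  have hretι : ∀ p, ret (ι p) = φ p := fun p => by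
    refine AlgHom.congr_fun (φ₁ := ret.comp ι) (MvPolynomial.algHom_ext fun i => ?_) p
    simp [ret, ι]
  have hretY : ∀ i, ret (Y i) = φ (X i) := fun i => by
    simp only [Y, map_add, map_sum, map_mul, hretW, mul_zero, Finset.sum_const_zero, add_zero]
    simp [ret]
  have hretρ : ∀ p, ret (ρ p) = φ p := fun p => by
    refine AlgHom.congr_fun (φ₁ := ret.comp ρ) (MvPolynomial.algHom_ext fun i => ?_) p
    rw [AlgHom.comp_apply, show ρ (X i) = Y i from aeval_X _ _, hretY]
  have hretg : ∀ k, ret (g k) = 0 := fun k => by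
    simp only [g, map_sub, map_add, map_sum, map_mul, hretρ, hretW, hf0, mul_zero, Finset.sum_const_zero,
      add_zero, sub_zero]
  have hretδ : ret δ = 1 := by
    have hdY : ∀ l i, ret (pderiv (Sum.inr l) (Y i)) = φ (N i l) := fun l i => by
      simp only [Y, map_add, map_sum, pderiv_mul, map_mul, hretW, mul_zero, zero_add, pderiv_X_of_ne
        (show (Sum.inl i : Fin n ⊕ Fin m) ≠ Sum.inr l from Sum.inl_ne_inr), map_zero]
      rw [Finset.sum_eq_single l]
      · rw [pderiv_X_self, map_one, mul_one, hretι]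
      · intro b _ hb
        rw [pderiv_X_of_ne (fun h => hb (Sum.inr_injective h)), map_zero, mul_zero]
      · simp
    have hK : ret.toRingHom.mapMatrix K = 1 := Matrix.ext fun i j => by
      change ret (pderiv (Sum.inl j) (Y i)) = (1 : Matrix (Fin n) (Fin n) A) i j
      have hne : ∀ l, pderiv (Sum.inl j) (W l) = 0 := fun l => pderiv_X_of_ne Sum.inr_ne_inl
      simp only [Y, map_add, map_sum, pderiv_mul, map_mul, hretW, hne, mul_zero, zero_add, map_zero,
        Finset.sum_const_zero, add_zero]
      rcases eq_or_ne i j with rfl | hij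
      · rw [pderiv_X_self, map_one, Matrix.one_apply_eq]
      · rw [pderiv_X_of_ne (fun h => hij (Sum.inl_injective h)), map_zero, Matrix.one_apply_ne hij]
    have hJ : ret.toRingHom.mapMatrix JW = 1 := Matrix.ext fun k l => by
      change ret (pderiv (Sum.inr l) (g k)) = (1 : Matrix (Fin m) (Fin m) A) k l
      simp only [g, map_sub, map_add, map_sum, pderiv_mul, map_mul, hretW, mul_zero, zero_add, hretρ]
      rw [show pderiv (Sum.inr l) (ρ (f k)) = _ from pderiv_aeval Y (Sum.inr l) (f k)]
      simp only [map_sum, map_mul, show ∀ p, ret (aeval Y p) = φ p from hretρ, hdY]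
      rw [show ∑ i, φ (pderiv i (f k)) * φ (N i l) = φ (P k l) by
        rw [hP, map_sum]; simp only [map_mul]]
      rw [show ∑ b, φ (P k b) * ret (pderiv (Sum.inr l) (W b)) = φ (P k l) by
        rw [Finset.sum_eq_single l]
        · rw [pderiv_X_self, map_one, mul_one]
        · intro b _ hb
          rw [pderiv_X_of_ne (fun h => hb (Sum.inr_injective h)), map_zero, mul_zero]
        · simp]
      rcases eq_or_ne k l with rfl | hkl
      · rw [pderiv_X_self, map_one, Matrix.one_apply_eq]; ring
      · rw [pderiv_X_of_ne (fun h => hkl (Sum.inr_injective h)), map_zero, Matrix.one_apply_ne hkl]; ring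
    have hT : ret.toRingHom.mapMatrix T = 0 := Matrix.ext fun k j => by
      change ret (ρ (Q k j) - ∑ l, ρ (cc k l j) * W l) = (0 : A)
      simp only [map_sub, map_sum, map_mul, hretW, hretρ, hQ0, mul_zero, Finset.sum_const_zero, sub_zero]
    have e1 : ret.toRingHom JW.det = 1 := by rw [RingHom.map_det, hJ, Matrix.det_one]
    have e2 : ret.toRingHom K.det = 1 := by rw [RingHom.map_det, hK, Matrix.det_one]
    have e3 : ret.toRingHom (1 - T).det = 1 := by
      rw [RingHom.map_det, map_sub, map_one, hT, sub_zero, Matrix.det_one]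
    simp only [δ, map_mul]
    rw [show ret JW.det = 1 from e1, show ret K.det = 1 from e2, show ret (1 - T).det = 1 from e3, one_mul, one_mul]
  -- the algebra
  let Q₀ := MvPolynomial (Fin n ⊕ Fin m) R ⧸ Ideal.span (Set.range g)
  let q₀ : MvPolynomial (Fin n ⊕ Fin m) R →ₐ[R] Q₀ := Ideal.Quotient.mkₐ R _
  let B := Localization.Away (q₀ δ)
  let θ : MvPolynomial (Fin n ⊕ Fin m) R →ₐ[R] B := (IsScalarTower.toAlgHom R Q₀ B).comp q₀
  have hθg : ∀ k, θ (g k) = 0 := fun k => by
    change algebraMap Q₀ B (q₀ (g k)) = 0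
    rw [show q₀ (g k) = 0 from Ideal.Quotient.eq_zero_iff_mem.mpr (Ideal.subset_span ⟨k, rfl⟩), map_zero]
  have hδu : IsUnit (θ δ) := IsLocalization.Away.algebraMap_isUnit (q₀ δ)
  obtain ⟨hJu, hKu, hTu⟩ : IsUnit (θ JW.det) ∧ IsUnit (θ K.det) ∧ IsUnit (θ (1 - T).det) := by
    simp only [δ, map_mul, IsUnit.mul_iff] at hδu
    exact hδu
  have hfB : ∀ k, θ (ρ (f k)) = 0 := by
    have hg' : ∀ t, ρ (f t) = g t - W t + ∑ l, ρ (P t l) * W l := fun t => by simp only [g]; ring
    have hvec : (θ.toRingHom.mapMatrix (1 - T)).mulVec (fun j => θ (ρ (f j))) = 0 := by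
      funext k
      simp only [map_sub, map_one, Matrix.sub_mulVec, Matrix.one_mulVec, Pi.sub_apply, Pi.zero_apply,
        sub_eq_zero]
      change θ (ρ (f k)) = ∑ j, θ (ρ (Q k j) - ∑ l, ρ (cc k l j) * W l) * θ (ρ (f j))
      simp only [map_sub, map_sum, map_mul]
      refine key_identity (fun a b => θ (ρ (P a b))) (fun a b => θ (ρ (Q a b))) (fun a b c => θ (ρ (cc a b c)))
        (fun a => θ (ρ (f a))) (fun a => θ (W a)) (fun a b => ?_) (fun a => ?_) (fun a => ?_) k
      · simpa only [map_sub, map_sum, map_mul] using congrArg (fun p => θ (ρ p)) (hcc a b)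
      · rw [hg', map_add, map_sub, hθg, zero_sub, map_sum]
        simp only [map_mul]
      · simpa only [map_add, map_sum, map_mul] using congrArg (fun p => θ (ρ p)) (hQ a)
    have h0 := eq_zero_of_det _ _ (by
      change IsUnit (θ.toRingHom.mapMatrix (1 - T)).det
      rw [← RingHom.map_det]
      exact hTu) hvec
    exact fun k => congrFun h0 k
  let αA : A →ₐ[R] B := AlgHom.liftOfSurjective φ hφ (θ.comp ρ) (fun p hp => by
    have hle : Ideal.span (Set.range f) ≤ RingHom.ker (θ.comp ρ) := Ideal.span_le.mpr (by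
      rintro _ ⟨k, rfl⟩; exact hfB k)
    exact hle (hker ▸ hp))
  have hαA : ∀ p, αA (φ p) = θ (ρ p) := fun p => AlgHom.liftOfSurjective_apply _ _ _ _ _
  letI : Algebra A B := αA.toRingHom.toAlgebra
  haveI : IsScalarTower R A B := IsScalarTower.of_algebraMap_eq fun r => (αA.commutes r).symm
  have hstd : Algebra.IsStandardSmooth R B := by
    let P1 : Algebra.PreSubmersivePresentation R Q₀ (Fin n ⊕ Fin m) (Fin m) :=
      { toPresentation := Algebra.Presentation.naive (v := g)
        map := Sum.inr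
        map_inj := Sum.inr_injective }
    let P2 := (Algebra.PreSubmersivePresentation.localizationAway B (q₀ δ)).comp P1
    have hP1 : P1.jacobian = q₀ JW.det := by
      have hM : P1.jacobiMatrix = JW.transpose := by
        ext i j : 1
        rw [Algebra.PreSubmersivePresentation.jacobiMatrix_apply]
        rfl
      rw [Algebra.PreSubmersivePresentation.jacobian_eq_jacobiMatrix_det, hM, Matrix.det_transpose]
      rfl
    have hjac : IsUnit P2.jacobian := by
      simp only [P2, Algebra.PreSubmersivePresentation.comp_jacobian_eq_jacobian_smul_jacobian,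
        Algebra.PreSubmersivePresentation.localizationAway_jacobian, Algebra.smul_def, hP1]
      exact hJu.mul (IsLocalization.Away.algebraMap_isUnit (q₀ δ))
    exact Algebra.SubmersivePresentation.isStandardSmooth ⟨P2, hjac⟩
  refine ⟨B, inferInstance, inferInstance, inferInstance, inferInstance, ?_, ?_, hstd⟩
  · haveI : Algebra.IsStandardSmooth R B := hstd
    haveI : Algebra.FinitePresentation A B :=
      Algebra.FinitePresentation.of_restrict_scalars_finitePresentation R A B
    refine ⟨Algebra.FormallySmooth.of_comp_surjective ?_, inferInstance⟩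
    intro E _ _ J hJ u
    letI : Algebra R E := ((algebraMap A E).comp (algebraMap R A)).toAlgebra
    haveI : IsScalarTower R A E := IsScalarTower.of_algebraMap_eq fun _ => rfl
    haveI : IsScalarTower R A (E ⧸ J) := IsScalarTower.of_algebraMap_eq fun _ => rfl
    let u' : MvPolynomial (Fin n ⊕ Fin m) R →ₐ[R] E ⧸ J := (u.restrictScalars R).comp θ
    have hu' : ∀ p, u' (ρ p) = algebraMap A (E ⧸ J) (φ p) := fun p => by
      change u (θ (ρ p)) = _
      rw [← hαA]
      exact u.commutes (φ p)
    have hnil : IsNilpotent J := ⟨2, hJ⟩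
    choose z hz using fun s => Ideal.Quotient.mk_surjective (u' (X s))
    let a : MvPolynomial (Fin n) R →ₐ[R] E := (IsScalarTower.toAlgHom R A E).comp φ
    let z₁ : Fin n ⊕ Fin m → E := Sum.elim (fun i => z (Sum.inl i)) fun k => ∑ l, a (P k l) * z (Sum.inr l)
    have hq : ∀ (z' : Fin n ⊕ Fin m → E), (∀ s, Ideal.Quotient.mk J (z' s) = u' (X s)) →
        ∀ p, Ideal.Quotient.mk J (aeval z' p) = u' p := fun z' hz' p => by
      refine AlgHom.congr_fun (φ₁ := (Ideal.Quotient.mkₐ R J).comp (aeval z')) (MvPolynomial.algHom_ext fun s => ?_) p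
      rw [AlgHom.comp_apply, aeval_X]
      exact hz' s
    have hz₁ : ∀ s, Ideal.Quotient.mk J (z₁ s) = u' (X s) := by
      rintro (i | k)
      · exact hz _
      · change Ideal.Quotient.mk J (∑ l, a (P k l) * z (Sum.inr l)) = u' (W k)
        have hgk : u' (g k) = 0 := by
          change u (θ (g k)) = 0
          rw [hθg, map_zero]
        simp only [g, map_sub, map_add, map_sum, map_mul, hu', hf0, map_zero, zero_add, sub_eq_zero] at hgk
        rw [hgk, map_sum]
        refine Finset.sum_congr rfl fun l _ => ?_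
        rw [map_mul, hz]
        rfl
    let e : Fin n → E := fun i => a (X i) - aeval z₁ (Y i)
    have he : ∀ i, e i ∈ J := fun i => by
      rw [← Ideal.Quotient.eq_zero_iff_mem, map_sub, hq z₁ hz₁, sub_eq_zero,
        show Y i = ρ (X i) from (aeval_X _ _).symm, hu']
      rfl
    obtain ⟨d, hd⟩ : IsUnit ((aeval z₁).toRingHom K.det) := by
      rw [← IsNilpotent.isUnit_quotient_mk_iff hnil]
      change IsUnit (Ideal.Quotient.mk J (aeval z₁ K.det))
      rw [hq z₁ hz₁]
      exact hKu.map u
    let K₁ := (aeval z₁).toRingHom.mapMatrix K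
    let h : Fin n → E := fun j => ((d⁻¹ : Eˣ) : E) * (K₁.adjugate.mulVec e) j
    have hh : ∀ j, h j ∈ J := fun j =>
      Ideal.mul_mem_left _ _ (by
        simp only [Matrix.mulVec, dotProduct]
        exact Ideal.sum_mem _ fun i _ => Ideal.mul_mem_left _ _ (he i))
    have hKh : K₁.mulVec h = e := by
      have : h = ((d⁻¹ : Eˣ) : E) • K₁.adjugate.mulVec e := rfl
      rw [this, Matrix.mulVec_smul, Matrix.mulVec_mulVec, Matrix.mul_adjugate, Matrix.smul_mulVec,
        Matrix.one_mulVec, ← RingHom.map_det, ← hd, smul_smul, Units.inv_mul, one_smul]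
    let z₂ : Fin n ⊕ Fin m → E := fun s => z₁ s + Sum.elim h (fun _ => 0) s
    have hhJ : ∀ s : Fin n ⊕ Fin m, Sum.elim h (fun _ => 0) s ∈ J := by
      rintro (i | k)
      · exact hh i
      · exact J.zero_mem
    have hz₂ : ∀ s, Ideal.Quotient.mk J (z₂ s) = u' (X s) := fun s => by
      rw [map_add, hz₁, Ideal.Quotient.eq_zero_iff_mem.mpr (hhJ s), add_zero]
    have hY₂ : ∀ i, aeval z₂ (Y i) = a (X i) := fun i => by
      rw [aeval_taylor J hJ z₁ _ hhJ (Y i), Fintype.sum_sum_type]
      simp only [Sum.elim_inl, Sum.elim_inr, zero_mul, Finset.sum_const_zero, add_zero]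
      have := congrFun hKh i
      rw [show ∑ j, h j * aeval z₁ (pderiv (Sum.inl j) (Y i)) = e i by
        rw [← this]
        exact Finset.sum_congr rfl fun j _ => mul_comm _ _]
      simp only [e]
      ring
    have hρ₂ : ∀ p, aeval z₂ (ρ p) = a p := fun p => by
      refine AlgHom.congr_fun (φ₁ := (aeval z₂).comp ρ) (MvPolynomial.algHom_ext fun i => ?_) p
      rw [AlgHom.comp_apply, show ρ (X i) = Y i from aeval_X _ _, hY₂]
    have hW₂ : ∀ k, aeval z₂ (W k) = ∑ l, a (P k l) * z (Sum.inr l) := fun k => by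
      simp [W, z₂, z₁]
    have hg₂ : ∀ k, aeval z₂ (g k) = 0 := fun k => by
      simp only [g, map_sub, map_add, map_sum, map_mul, hρ₂, hW₂]
      have h0 : a (f k) = 0 := by
        change algebraMap A E (φ (f k)) = 0
        rw [hf0, map_zero]
      have hid : ∀ l, ∑ t, a (P k t) * a (P t l) = a (P k l) := fun l => by
        change ∑ t, algebraMap A E (φ (P k t)) * algebraMap A E (φ (P t l)) = algebraMap A E (φ (P k l))
        simp only [← map_mul, ← map_sum]
        congr 1
        rw [map_sum]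
        simp only [map_mul, hidem]
      rw [h0, zero_add, sub_eq_zero]
      simp only [Finset.mul_sum, ← mul_assoc]
      rw [Finset.sum_comm]
      exact Finset.sum_congr rfl fun l _ => by rw [← Finset.sum_mul, hid]
    let v₀ : Q₀ →ₐ[R] E := Ideal.Quotient.liftₐ _ (aeval z₂) (fun p hp =>
      (Ideal.span_le.mpr (by rintro _ ⟨k, rfl⟩; exact hg₂ k) : Ideal.span (Set.range g) ≤ RingHom.ker (aeval z₂)) hp)
    have hv₀ : ∀ p, v₀ (q₀ p) = aeval z₂ p := fun p => rfl
    have hvu : ∀ y : Submonoid.powers (q₀ δ), IsUnit (v₀ y) := by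
      rintro ⟨_, k, rfl⟩
      rw [map_pow, hv₀]
      refine IsUnit.pow k ?_
      rw [← IsNilpotent.isUnit_quotient_mk_iff hnil, hq z₂ hz₂]
      exact hδu.map u
    let v : B →ₐ[R] E := IsLocalization.liftAlgHom hvu
    have hv : ∀ p, v (θ p) = aeval z₂ p := fun p => (IsLocalization.lift_eq _ _).trans (hv₀ p)
    refine ⟨{ v with commutes' := fun x => ?_ }, ?_⟩
    · obtain ⟨p, rfl⟩ := hφ x
      change v (αA (φ p)) = algebraMap A E (φ p)
      rw [hαA, hv, hρ₂]
      rfl
    · refine AlgHom.restrictScalars_injective R ?_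
      refine IsLocalization.algHom_ext (Submonoid.powers (q₀ δ)) (Ideal.Quotient.algHom_ext R
        (MvPolynomial.algHom_ext fun s => ?_))
      change Ideal.Quotient.mk J (v (θ (X s))) = u (θ (X s))
      rw [hv, aeval_X, hz₂]
      rfl
  · let r₀ : Q₀ →ₐ[R] A := Ideal.Quotient.liftₐ _ ret (fun p hp =>
      (Ideal.span_le.mpr (by rintro _ ⟨k, rfl⟩; exact hretg k) : Ideal.span (Set.range g) ≤ RingHom.ker ret) hp)
    have hru : ∀ y : Submonoid.powers (q₀ δ), IsUnit (r₀ y) := by
      rintro ⟨_, k, rfl⟩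
      rw [map_pow, show r₀ (q₀ δ) = ret δ from rfl, hretδ, one_pow]
      exact isUnit_one
    let r : B →ₐ[R] A := IsLocalization.liftAlgHom hru
    refine ⟨{ r with commutes' := fun x => ?_ }⟩
    obtain ⟨p, rfl⟩ := hφ x
    change r (αA (φ p)) = φ p
    rw [hαA]
    exact (IsLocalization.lift_eq _ _).trans (hretρ p)

end Groth.Agent.SmoothRetract
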